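import Mathlib
import Cfsg.Agent.Helper58.Marggraf
import Cfsg.Agent.Helper60.Marg.Defs

/-!
# Marggraf (S3620), piece (CSt) for helper60: the Steiner system of the combinatorial core

`exists_stSys`: under `CoreHyp 𝒯 m t e`, for `Γ ∈ 𝒯` there is a `StSys Ω t e Γᶜ`.
The rotation lemma (CS) is proved here as `eqv_rot_aux` (own name, no clash).
-/

set_option autoImplicit false

namespace Cfsg.Agent.Helper25.Marg

open Cfsg.Agent.Helper60.Marg Cfsg.Agent.Helper58 MulAction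

variable {Ω : Type*} [DecidableEq Ω] [Fintype Ω]

/-- inclusion-exclusion on three points, additive form -/
theorem count_id (F : Finset (Finset Ω)) (a b c : Ω) :
    (F.filter (fun T => a ∈ T ∧ b ∉ T ∧ c ∉ T)).card + (F.filter (fun T => a ∈ T ∧ b ∈ T)).card
      + (F.filter (fun T => a ∈ T ∧ c ∈ T)).card
    = (F.filter (fun T => a ∈ T)).card + (F.filter (fun T => a ∈ T ∧ b ∈ T ∧ c ∈ T)).card := by
  simp only [Finset.card_filter]
  rw [← Finset.sum_add_distrib, ← Finset.sum_add_distrib, ← Finset.sum_add_distrib]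
  refine Finset.sum_congr rfl fun T _ => ?_
  by_cases ha : a ∈ T <;> by_cases hb : b ∈ T <;> by_cases hc : c ∈ T <;> simp [ha, hb, hc]

theorem mem_TA_insert (𝒯 : Finset (Finset Ω)) (A : Finset Ω) (z : Ω) (T : Finset Ω) :
    T ∈ TA 𝒯 (insert z A) ↔ T ∈ TA 𝒯 A ∧ z ∉ T := by
  simp only [TA, Finset.mem_filter, Finset.disjoint_insert_right]
  tauto

/-- (CS) rotation of the ternary relation -/
theorem eqv_rot_aux {𝒯 : Finset (Finset Ω)} {m t e : ℕ} (h : CoreHyp 𝒯 m t e)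
    (A : Finset Ω) (hA : A.card + 2 = t) (d x y : Ω) (hd : d ∉ A) (hx : x ∉ A) (hy : y ∉ A)
    (hdx : d ≠ x) (hdy : d ≠ y) (hxy : x ≠ y)
    (hE : Eqv 𝒯 (insert d A) x y) : Eqv 𝒯 (insert x A) d y := by
  have h0 : ((TA 𝒯 A).filter (fun T => x ∈ T ∧ d ∉ T ∧ y ∉ T)).card = 0 := by
    rw [Finset.card_eq_zero, Finset.filter_eq_empty_iff]
    rintro T hT ⟨h1, h2, h3⟩
    exact h3 ((hE T ((mem_TA_insert 𝒯 A d T).2 ⟨hT, h2⟩)).1 h1)
  have e1 := count_id (TA 𝒯 A) x d y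
  have e2 := count_id (TA 𝒯 A) d x y
  have e3 := count_id (TA 𝒯 A) y x d
  have l1 := h.one A hA x d hx hd
  have l1' := h.one A hA x y hx hy
  have t1 := h.two A hA x d x y hx hd hx hy hdx.symm hxy
  have t2 := h.two A hA x d d x hx hd hd hx hdx.symm hdx
  have t3 := h.two A hA x d d y hx hd hd hy hdx.symm hdy
  have t4 := h.two A hA x d y x hx hd hy hx hdx.symm hxy.symm
  have t5 := h.two A hA x d y d hx hd hy hd hdx.symm hdy.symm
  have c1 : ((TA 𝒯 A).filter (fun T => d ∈ T ∧ x ∈ T ∧ y ∈ T)).card =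
      ((TA 𝒯 A).filter (fun T => x ∈ T ∧ d ∈ T ∧ y ∈ T)).card := by
    congr 1; apply Finset.filter_congr; intros; tauto
  have c2 : ((TA 𝒯 A).filter (fun T => y ∈ T ∧ x ∈ T ∧ d ∈ T)).card =
      ((TA 𝒯 A).filter (fun T => x ∈ T ∧ d ∈ T ∧ y ∈ T)).card := by
    congr 1; apply Finset.filter_congr; intros; tauto
  have hd0 : ((TA 𝒯 A).filter (fun T => d ∈ T ∧ x ∉ T ∧ y ∉ T)).card = 0 := by omega
  have hy0 : ((TA 𝒯 A).filter (fun T => y ∈ T ∧ x ∉ T ∧ d ∉ T)).card = 0 := by omega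
  rw [Finset.card_eq_zero, Finset.filter_eq_empty_iff] at hd0 hy0
  intro T hT
  rw [mem_TA_insert] at hT
  constructor
  · intro hdT
    by_contra hyT
    exact hd0 hT.1 ⟨hdT, hT.2, hyT⟩
  · intro hyT
    by_contra hdT
    exact hy0 hT.1 ⟨hyT, hT.2, hdT⟩

theorem eqv_refl (𝒯 : Finset (Finset Ω)) (A : Finset Ω) (x : Ω) : Eqv 𝒯 A x x :=
  fun _ _ => Iff.rfl

theorem eqv_symm {𝒯 : Finset (Finset Ω)} {A : Finset Ω} {x y : Ω} (h : Eqv 𝒯 A x y) :
    Eqv 𝒯 A y x := fun T hT => (h T hT).symm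

theorem eqv_trans {𝒯 : Finset (Finset Ω)} {A : Finset Ω} {x y z : Ω} (h : Eqv 𝒯 A x y)
    (h' : Eqv 𝒯 A y z) : Eqv 𝒯 A x z := fun T hT => (h T hT).trans (h' T hT)

open Classical in
/-- the class of `x` outside `A` -/
noncomputable def cls (𝒯 : Finset (Finset Ω)) (A : Finset Ω) (x : Ω) : Finset Ω :=
  Finset.univ.filter (fun y => y ∉ A ∧ Eqv 𝒯 A x y)

theorem mem_cls (𝒯 : Finset (Finset Ω)) (A : Finset Ω) (x y : Ω) :
    y ∈ cls 𝒯 A x ↔ y ∉ A ∧ Eqv 𝒯 A x y := by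
  classical
  simp [cls]

/-- the closure `A ∪ [x]_A` -/
noncomputable def cl (𝒯 : Finset (Finset Ω)) (A : Finset Ω) (x : Ω) : Finset Ω :=
  A ∪ cls 𝒯 A x

theorem mem_cl (𝒯 : Finset (Finset Ω)) (A : Finset Ω) (x y : Ω) :
    y ∈ cl 𝒯 A x ↔ y ∈ A ∨ (y ∉ A ∧ Eqv 𝒯 A x y) := by
  rw [cl, Finset.mem_union, mem_cls]

theorem card_cls {𝒯 : Finset (Finset Ω)} {m t e : ℕ} (h : CoreHyp 𝒯 m t e) (A : Finset Ω)
    (hA : A.card + 1 = t) (x : Ω) (hx : x ∉ A) : (cls 𝒯 A x).card = e := by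
  have := h.cls A hA x hx
  rw [← this, ← Set.ncard_coe_finset]
  congr 1
  ext y
  simp [mem_cls]

theorem card_cl {𝒯 : Finset (Finset Ω)} {m t e : ℕ} (h : CoreHyp 𝒯 m t e) (A : Finset Ω)
    (hA : A.card + 1 = t) (x : Ω) (hx : x ∉ A) : (cl 𝒯 A x).card + 1 = t + e := by
  have hdis : Disjoint A (cls 𝒯 A x) := by
    rw [Finset.disjoint_left]
    intro y hy hy'
    exact ((mem_cls 𝒯 A x y).1 hy').1 hy
  rw [cl, Finset.card_union_of_disjoint hdis, card_cls h A hA x hx]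
  omega

theorem cl_congr {𝒯 : Finset (Finset Ω)} {A : Finset Ω} {x y : Ω} (hy : y ∉ A)
    (hxy : Eqv 𝒯 A x y) : cl 𝒯 A y = cl 𝒯 A x := by
  ext z
  rw [mem_cl, mem_cl]
  constructor
  · rintro (hz | ⟨hz, hz'⟩)
    · exact Or.inl hz
    · exact Or.inr ⟨hz, eqv_trans hxy hz'⟩
  · rintro (hz | ⟨hz, hz'⟩)
    · exact Or.inl hz
    · exact Or.inr ⟨hz, eqv_trans (eqv_symm hxy) hz'⟩

theorem cl_rot_sub {𝒯 : Finset (Finset Ω)} {m t e : ℕ} (h : CoreHyp 𝒯 m t e)
    (A : Finset Ω) (hA : A.card + 2 = t) (d x : Ω) (hd : d ∉ A) (hx : x ∉ A) (hdx : d ≠ x) :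
    cl 𝒯 (insert d A) x ⊆ cl 𝒯 (insert x A) d := by
  intro z hz
  rw [mem_cl] at hz ⊢
  rcases hz with hz | ⟨hz, hz'⟩
  · rw [Finset.mem_insert] at hz
    rcases hz with rfl | hz
    · right
      refine ⟨?_, eqv_refl _ _ _⟩
      rw [Finset.mem_insert]; push Not; exact ⟨hdx, hd⟩
    · left; exact Finset.mem_insert_of_mem hz
  · by_cases hzx : z = x
    · left; rw [hzx]; exact Finset.mem_insert_self _ _
    · rw [Finset.mem_insert] at hz; push Not at hz
      right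
      refine ⟨?_, eqv_rot_aux h A hA d x z hd hx hz.2 hdx (Ne.symm hz.1) (Ne.symm hzx) hz'⟩
      rw [Finset.mem_insert]; push Not; exact ⟨hzx, hz.2⟩

theorem cl_rot {𝒯 : Finset (Finset Ω)} {m t e : ℕ} (h : CoreHyp 𝒯 m t e)
    (A : Finset Ω) (hA : A.card + 2 = t) (d x : Ω) (hd : d ∉ A) (hx : x ∉ A) (hdx : d ≠ x) :
    cl 𝒯 (insert d A) x = cl 𝒯 (insert x A) d :=
  Finset.Subset.antisymm (cl_rot_sub h A hA d x hd hx hdx) (cl_rot_sub h A hA x d hx hd hdx.symm)

/-- the closure operator on `t`-sets -/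
noncomputable def Qf (𝒯 : Finset (Finset Ω)) (X : Finset Ω) : Finset Ω :=
  if hX : X.Nonempty then cl 𝒯 (X.erase hX.choose) hX.choose else ∅

theorem Qf_eq {𝒯 : Finset (Finset Ω)} {m t e : ℕ} (h : CoreHyp 𝒯 m t e)
    (X : Finset Ω) (hX : X.card = t) (x : Ω) (hx : x ∈ X) :
    Qf 𝒯 X = cl 𝒯 (X.erase x) x := by
  have hne : X.Nonempty := ⟨x, hx⟩
  rw [Qf, dif_pos hne]
  set c := hne.choose with hc
  have hcX : c ∈ X := hne.choose_spec
  by_cases hcx : c = x
  · rw [hcx]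
  · set A := (X.erase x).erase c with hAdef
    have hcA : c ∉ A := Finset.notMem_erase _ _
    have hxA : x ∉ A := fun hh => Finset.notMem_erase x X (Finset.mem_of_mem_erase hh)
    have h1 : X.erase c = insert x A := by
      ext z
      simp only [hAdef, Finset.mem_erase, Finset.mem_insert]
      constructor
      · rintro ⟨h1, h2⟩
        by_cases hzx : z = x
        · exact Or.inl hzx
        · exact Or.inr ⟨h1, hzx, h2⟩
      · rintro (rfl | ⟨h1, h2, h3⟩)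
        · exact ⟨Ne.symm hcx, hx⟩
        · exact ⟨h1, h3⟩
    have h2 : X.erase x = insert c A := by
      ext z
      simp only [hAdef, Finset.mem_erase, Finset.mem_insert]
      constructor
      · rintro ⟨h1, h2⟩
        by_cases hzc : z = c
        · exact Or.inl hzc
        · exact Or.inr ⟨hzc, h1, h2⟩
      · rintro (rfl | ⟨h1, h2, h3⟩)
        · exact ⟨hcx, hcX⟩
        · exact ⟨h2, h3⟩
    have hAcard : A.card + 2 = t := by
      have e1 : (X.erase x).card = X.card - 1 := Finset.card_erase_of_mem hx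
      have e2 : A.card = (X.erase x).card - 1 :=
        Finset.card_erase_of_mem (Finset.mem_erase.2 ⟨hcx, hcX⟩)
      have := h.ht4
      omega
    rw [h1, h2]
    exact cl_rot h A hAcard x c hxA hcA (Ne.symm hcx)

theorem Qf_swap {𝒯 : Finset (Finset Ω)} {m t e : ℕ} (h : CoreHyp 𝒯 m t e)
    (X : Finset Ω) (hX : X.card = t) (x y : Ω) (hx : x ∈ X) (hy : y ∈ Qf 𝒯 X) (hyX : y ∉ X) :
    Qf 𝒯 (insert y (X.erase x)) = Qf 𝒯 X := by
  have hyE : y ∉ X.erase x := fun hh => hyX (Finset.mem_of_mem_erase hh)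
  have hcard : (insert y (X.erase x)).card = t := by
    rw [Finset.card_insert_of_notMem hyE, Finset.card_erase_of_mem hx]
    have := h.ht4; omega
  rw [Qf_eq h X hX x hx] at hy ⊢
  rw [Qf_eq h _ hcard y (Finset.mem_insert_self _ _), Finset.erase_insert hyE]
  rw [mem_cl] at hy
  rcases hy with hy | ⟨hy1, hy2⟩
  · exact absurd hy hyE
  · exact cl_congr hy1 hy2

theorem Qf_sub {𝒯 : Finset (Finset Ω)} {m t e : ℕ} (h : CoreHyp 𝒯 m t e)
    (X : Finset Ω) (hX : X.card = t) : X ⊆ Qf 𝒯 X := by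
  intro z hz
  rw [Qf_eq h X hX z hz, mem_cl]
  right
  exact ⟨Finset.notMem_erase _ _, eqv_refl _ _ _⟩

theorem Qf_eq_of_sub {𝒯 : Finset (Finset Ω)} {m t e : ℕ} (h : CoreHyp 𝒯 m t e) :
    ∀ (n : ℕ) (X X' : Finset Ω), X.card = t → X'.card = t → X' ⊆ Qf 𝒯 X → (X' \ X).card = n →
      Qf 𝒯 X' = Qf 𝒯 X := by
  intro n
  induction n with
  | zero =>
    intro X X' hX hX' _ hn
    rw [Finset.card_eq_zero, Finset.sdiff_eq_empty_iff_subset] at hn
    rw [Finset.eq_of_subset_of_card_le hn (by omega)]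
  | succ n ih =>
    intro X X' hX hX' hsub hn
    obtain ⟨y, hy⟩ : (X' \ X).Nonempty := by
      rw [← Finset.card_pos]; omega
    rw [Finset.mem_sdiff] at hy
    obtain ⟨x, hx⟩ : (X \ X').Nonempty := by
      rw [← Finset.card_pos]
      have := Finset.card_sdiff_add_card_inter X X'
      have := Finset.card_sdiff_add_card_inter X' X
      rw [Finset.inter_comm] at this
      omega
    rw [Finset.mem_sdiff] at hx
    have hyE : y ∉ X.erase x := fun hh => hy.2 (Finset.mem_of_mem_erase hh)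
    have hsw := Qf_swap h X hX x y hx.1 (hsub hy.1) hy.2
    have hcard : (insert y (X.erase x)).card = t := by
      rw [Finset.card_insert_of_notMem hyE, Finset.card_erase_of_mem hx.1]
      have := h.ht4; omega
    rw [← hsw]
    apply ih (insert y (X.erase x)) X' hcard hX' (by rw [hsw]; exact hsub)
    -- `X' \ X'' = (X' \ X).erase y`
    have : X' \ insert y (X.erase x) = (X' \ X).erase y := by
      ext z
      simp only [Finset.mem_sdiff, Finset.mem_insert, Finset.mem_erase]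
      constructor
      · rintro ⟨h1, h2⟩
        push Not at h2
        refine ⟨h2.1, h1, fun hzX => ?_⟩
        by_cases hzx : z = x
        · exact hx.2 (hzx ▸ h1)
        · exact h2.2 hzx hzX
      · rintro ⟨h1, h2, h3⟩
        refine ⟨h2, ?_⟩
        push Not
        exact ⟨h1, fun _ hzX => h3 hzX⟩
    rw [this, Finset.card_erase_of_mem (Finset.mem_sdiff.2 hy), hn]
    rfl

/-- (CSt) the Steiner system -/
theorem exists_stSys {𝒯 : Finset (Finset Ω)} {m t e : ℕ} (h : CoreHyp 𝒯 m t e)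
    (Γ : Finset Ω) (hΓ : Γ ∈ 𝒯) : Nonempty (StSys Ω t e Γᶜ) := by
  have ht4 := h.ht4
  have hΓTA : ∀ A : Finset Ω, A ⊆ Γᶜ → Γ ∈ TA 𝒯 A := by
    intro A hA
    rw [TA, Finset.mem_filter]
    refine ⟨hΓ, ?_⟩
    rw [Finset.disjoint_left]
    intro z hz hzA
    have := hA hzA
    rw [Finset.mem_compl] at this
    exact this hz
  refine ⟨{ Q := Qf 𝒯, sub := Qf_sub h, card := ?_, eq := ?_, inΔ := ?_, inΓ := ?_ }⟩
  · intro X hX
    obtain ⟨x, hx⟩ : X.Nonempty := by rw [← Finset.card_pos]; omega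
    rw [Qf_eq h X hX x hx]
    apply card_cl h _ _ x (Finset.notMem_erase _ _)
    rw [Finset.card_erase_of_mem hx]; omega
  · intro X X' hX hX' hsub
    exact Qf_eq_of_sub h _ X X' hX hX' hsub rfl
  · intro X hX hXΔ z hz
    obtain ⟨x, hx⟩ : X.Nonempty := by rw [← Finset.card_pos]; omega
    rw [Qf_eq h X hX x hx, mem_cl] at hz
    rcases hz with hz | ⟨_, hz⟩
    · exact hXΔ (Finset.mem_of_mem_erase hz)
    · have hΓA := hΓTA (X.erase x) ((Finset.erase_subset _ _).trans hXΔ)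
      have hxΓ := hXΔ hx
      rw [Finset.mem_compl] at hxΓ ⊢
      exact fun hzΓ => hxΓ ((hz Γ hΓA).2 hzΓ)
  · intro X hX hXc
    -- the unique point of `X` outside `Δ`
    obtain ⟨x, hx⟩ : (X \ Γᶜ).Nonempty := by
      rw [← Finset.card_pos]
      have := Finset.card_sdiff_add_card_inter X Γᶜ
      omega
    rw [Finset.mem_sdiff] at hx
    have hxΓ : x ∈ Γ := by simpa using hx.2
    have hEsub : X.erase x ⊆ Γᶜ := by
      have h1 : X ∩ Γᶜ ⊆ X.erase x := by
        intro z hz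
        rw [Finset.mem_inter] at hz
        exact Finset.mem_erase.2 ⟨fun hzx => hx.2 (hzx ▸ hz.2), hz.1⟩
      have h2 : (X.erase x).card ≤ (X ∩ Γᶜ).card := by
        rw [Finset.card_erase_of_mem hx.1]; omega
      rw [← Finset.eq_of_subset_of_card_le h1 h2]
      exact Finset.inter_subset_right
    rw [Finset.disjoint_left]
    intro z hz hzΔ
    rw [Finset.mem_sdiff, Qf_eq h X hX x hx.1, mem_cl] at hz
    rcases hz with ⟨hz | ⟨_, hz⟩, hzX⟩
    · exact hzX (Finset.mem_of_mem_erase hz)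
    · have hΓA := hΓTA (X.erase x) hEsub
      rw [Finset.mem_compl] at hzΔ
      exact hzΔ ((hz Γ hΓA).1 hxΓ)

end Cfsg.Agent.Helper25.Marg
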