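import Mathlib
import Cfsg.Agent.Helper58.Marggraf
import Cfsg.Agent.Helper60.Marg.Defs

/-!
# Marggraf (S3620), piece (M6c) for helper60

`succ_trans_of_fixing_two`: `G` `t`-transitive, `|A| + 1 = t`, the fixator of `A` 2-transitive on the
rest ⟹ `G` is `(t+1)`-transitive.
-/

set_option autoImplicit false

namespace Cfsg.Agent.Helper25.Marg

open Cfsg.Agent.Helper60.Marg Cfsg.Agent.Helper58 MulAction

variable {G : Type*} [Group G] {Ω : Type*} [MulAction G Ω]

/-- (M6c) -/
theorem succ_trans_of_fixing_two [Finite Ω] (t : ℕ) (ht1 : 1 ≤ t)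
    (ht : IsMultiplyPretransitive G Ω t) (A : Set Ω) (hA : A.ncard + 1 = t)
    (h2 : IsMultiplyPretransitive (fixingSubgroup G A) (SubMulAction.ofFixingSubgroup G A) 2) :
    IsMultiplyPretransitive G Ω (t + 1) := by
  subst hA
  -- enumeration of `A`
  obtain ⟨a, ha⟩ : ∃ a : Fin A.ncard ↪ Ω, Set.range a = A := by
    have hfin : A.Finite := Set.toFinite A
    have hcard : hfin.toFinset.card = A.ncard := by rw [Set.ncard_eq_toFinset_card A hfin]
    let e := (hfin.toFinset.equivFinOfCardEq hcard).symm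
    refine ⟨e.toEmbedding.trans (Function.Embedding.subtype _), ?_⟩
    ext z
    simp only [Set.mem_range, Function.Embedding.trans_apply, Equiv.coe_toEmbedding,
      Function.Embedding.subtype_apply]
    constructor
    · rintro ⟨i, rfl⟩
      exact hfin.mem_toFinset.1 (e i).2
    · intro hz
      exact ⟨e.symm ⟨z, hfin.mem_toFinset.2 hz⟩, by simp⟩
  have hA' : ∀ z, z ∈ A ↔ z ∈ Set.range a := fun z => by rw [ha]
  rw [isMultiplyPretransitive_iff]
  intro x y
  have hcardΩ : A.ncard + 1 + 1 ≤ Nat.card Ω := by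
    have := Nat.card_le_card_of_injective x x.injective
    simpa using this
  haveI : IsMultiplyPretransitive G Ω A.ncard :=
    isMultiplyPretransitive_of_le (n := A.ncard + 1) (Nat.le_succ _) (by omega)
  have hle : A.ncard ≤ A.ncard + 1 + 1 := by omega
  -- normalise a tuple
  have norm : ∀ x : Fin (A.ncard + 1 + 1) ↪ Ω, ∃ g : G,
      (∀ i : Fin A.ncard, g • x (Fin.castLE hle i) = a i) ∧
      g • x ⟨A.ncard, by omega⟩ ∉ A ∧ g • x ⟨A.ncard + 1, by omega⟩ ∉ A ∧
      g • x ⟨A.ncard, by omega⟩ ≠ g • x ⟨A.ncard + 1, by omega⟩ := by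
    intro x
    obtain ⟨g, hg⟩ := exists_smul_eq G ((Fin.castLEEmb hle).trans x) a
    have hg' : ∀ i : Fin A.ncard, g • x (Fin.castLE hle i) = a i := by
      intro i
      have := DFunLike.congr_fun hg i
      simpa using this
    have hout : ∀ j : Fin (A.ncard + 1 + 1), A.ncard ≤ j.val → g • x j ∉ A := by
      intro j hj hmem
      obtain ⟨i, hi⟩ := (hA' _).1 hmem
      rw [← hg' i] at hi
      have := x.injective (smul_left_cancel g hi)
      have := congrArg Fin.val this
      simp at this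
      omega
    refine ⟨g, hg', hout _ le_rfl, hout _ (by simp), ?_⟩
    intro hEq
    have := x.injective (smul_left_cancel g hEq)
    have := congrArg Fin.val this
    simp at this
  obtain ⟨g1, hg1, hu, hv, huv⟩ := norm x
  obtain ⟨g2, hg2, hu', hv', huv'⟩ := norm y
  rw [is_two_pretransitive_iff] at h2
  obtain ⟨h, hh1, hh2⟩ := @h2
    ⟨g1 • x ⟨A.ncard, by omega⟩, (SubMulAction.mem_ofFixingSubgroup_iff G).2 hu⟩
    ⟨g1 • x ⟨A.ncard + 1, by omega⟩, (SubMulAction.mem_ofFixingSubgroup_iff G).2 hv⟩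
    ⟨g2 • y ⟨A.ncard, by omega⟩, (SubMulAction.mem_ofFixingSubgroup_iff G).2 hu'⟩
    ⟨g2 • y ⟨A.ncard + 1, by omega⟩, (SubMulAction.mem_ofFixingSubgroup_iff G).2 hv'⟩
    (by intro hEq; exact huv (congrArg Subtype.val hEq))
    (by intro hEq; exact huv' (congrArg Subtype.val hEq))
  have hh1' : (h : G) • g1 • x ⟨A.ncard, by omega⟩ = g2 • y ⟨A.ncard, by omega⟩ :=
    congrArg Subtype.val hh1
  have hh2' : (h : G) • g1 • x ⟨A.ncard + 1, by omega⟩ = g2 • y ⟨A.ncard + 1, by omega⟩ :=
    congrArg Subtype.val hh2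
  have hfix : ∀ z ∈ A, (h : G) • z = z := fun z hz => (mem_fixingSubgroup_iff G).1 h.2 z hz
  refine ⟨g2⁻¹ * (h : G) * g1, ?_⟩
  ext i
  rw [Function.Embedding.smul_apply, mul_smul, mul_smul, inv_smul_eq_iff]
  rcases lt_trichotomy i.val A.ncard with hi | hi | hi
  · have hi' : i = Fin.castLE hle ⟨i.val, hi⟩ := by ext; simp
    rw [hi', hg1, hg2, hfix]
    exact (hA' _).2 (Set.mem_range_self _)
  · have hi' : i = ⟨A.ncard, by omega⟩ := by ext; exact hi
    rw [hi']; exact hh1'
  · have hi' : i = ⟨A.ncard + 1, by omega⟩ := by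
      ext; have := i.2; simp only; omega
    rw [hi']; exact hh2'

end Cfsg.Agent.Helper25.Marg
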